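import Groth.Agent.CAlgLib.UnivInj
import Groth.Prelude.Def_W4stkadequatePure
import Mathlib.Algebra.Module.CharacterModule
import Mathlib.LinearAlgebra.DFinsupp
import Mathlib.RingTheory.Flat.Basic

/-!
# Universally injective maps, pure projective and pure injective modules
-/

set_option autoImplicit false
universe u

open TensorProduct

namespace Groth.Agent.PureExtLib

variable {R : Type u} [CommRing R]
variable {K L M N : Type u} [AddCommGroup K] [Module R K] [AddCommGroup L] [Module R L]
  [AddCommGroup M] [Module R M] [AddCommGroup N] [Module R N]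

/-- maps into a character module extend along universally injective maps -/
theorem exists_extend_char {f : K →ₗ[R] L} (hf : CAlgX.UniversallyInjective R f)
    (φ : K →ₗ[R] CharacterModule M) : ∃ ψ : L →ₗ[R] CharacterModule M, ψ ∘ₗ f = φ := by
  obtain ⟨χ, hχ⟩ := CharacterModule.dual_surjective_of_injective _ (hf M) (CharacterModule.uncurry φ)
  refine ⟨CharacterModule.curry χ, ?_⟩
  ext k m
  exact congr($hχ (k ⊗ₜ m))

theorem universallyInjective_charEval (M : Type u) [AddCommGroup M] [Module R M] :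
    CAlgX.UniversallyInjective R (PureExt.charEval R M) := by
  intro Q _ _
  rw [injective_iff_map_eq_zero]
  intro z hz
  by_contra hne
  obtain ⟨χ, hχ⟩ := CharacterModule.exists_character_apply_ne_zero_of_ne_zero hne
  apply hχ
  let g : Q →ₗ[R] CharacterModule M :=
    CharacterModule.curry (CharacterModule.dual (TensorProduct.comm R Q M).toLinearMap χ)
  have key : ∀ w : M ⊗[R] Q,
      CharacterModule.uncurry (CharacterModule.dual g) ((PureExt.charEval R M).rTensor Q w) = χ w := by
    intro w
    induction w using TensorProduct.induction_on with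
    | zero => rw [map_zero, map_zero, map_zero]
    | tmul m q => rfl
    | add a b ha hb => simp only [map_add, ha, hb]
  rw [← key z, hz, map_zero]

theorem pureInjective_char (M : Type u) [AddCommGroup M] [Module R M] :
    ∀ ⦃K L : Type u⦄ [AddCommGroup K] [Module R K] [AddCommGroup L] [Module R L] (f : K →ₗ[R] L),
      CAlgX.UniversallyInjective R f → ∀ φ : K →ₗ[R] CharacterModule M,
        ∃ ψ : L →ₗ[R] CharacterModule M, ψ ∘ₗ f = φ :=
  fun _ _ _ _ _ _ _ hf φ => exists_extend_char hf φ

theorem pureInjective_iff (I : Type u) [AddCommGroup I] [Module R I] :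
    (∀ ⦃K L : Type u⦄ [AddCommGroup K] [Module R K] [AddCommGroup L] [Module R L] (f : K →ₗ[R] L),
        CAlgX.UniversallyInjective R f → ∀ φ : K →ₗ[R] I, ∃ ψ : L →ₗ[R] I, ψ ∘ₗ f = φ) ↔
    ∃ r : CharacterModule (CharacterModule I) →ₗ[R] I, r ∘ₗ PureExt.charEval R I = LinearMap.id := by
  refine ⟨fun h => h _ (universallyInjective_charEval I) LinearMap.id, ?_⟩
  rintro ⟨r, hr⟩ K L _ _ _ _ f hf φ
  obtain ⟨ψ, hψ⟩ := exists_extend_char hf (PureExt.charEval R I ∘ₗ φ)
  exact ⟨r ∘ₗ ψ, by rw [LinearMap.comp_assoc, hψ, ← LinearMap.comp_assoc, hr, LinearMap.id_comp]⟩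

/-- an exact sequence after every tensor product is exact -/
theorem exact_of_rTensor_R {f : L →ₗ[R] M} {g : M →ₗ[R] N}
    (h : Function.Exact (f.rTensor R) (g.rTensor R)) : Function.Exact f g := by
  refine (Function.Exact.iff_of_ladder_linearEquiv (e₁ := TensorProduct.rid R L) (e₂ := TensorProduct.rid R M)
    (e₃ := TensorProduct.rid R N) ?_ ?_).2 h
  · exact TensorProduct.ext' fun l r => by simp
  · exact TensorProduct.ext' fun l r => by simp

theorem surjective_of_rTensor_R {g : M →ₗ[R] N} (h : Function.Surjective (g.rTensor R)) :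
    Function.Surjective g := by
  intro n
  obtain ⟨x, hx⟩ := h (n ⊗ₜ 1)
  refine ⟨TensorProduct.rid R M x, ?_⟩
  have e : g ∘ₗ (TensorProduct.rid R M).toLinearMap = (TensorProduct.rid R N).toLinearMap ∘ₗ g.rTensor R :=
    TensorProduct.ext' fun m r => by simp
  have := congr($e x)
  simp only [LinearMap.comp_apply, LinearEquiv.coe_coe] at this
  rw [this, hx]
  simp

theorem injective_of_universallyInjective {f : L →ₗ[R] M} (h : CAlgX.UniversallyInjective R f) :
    Function.Injective f := fun a b hab => by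
  have := h R (a₁ := a ⊗ₜ (1 : R)) (a₂ := b ⊗ₜ (1 : R)) (by simp [hab])
  simpa using congr(TensorProduct.rid R L $this)

/-- the range of the second map of a universally exact sequence is pure -/
theorem universallyInjective_range {f : L →ₗ[R] M} {g : M →ₗ[R] N}
    (h : ∀ (Q : Type u) [AddCommGroup Q] [Module R Q], Function.Exact (f.rTensor Q) (g.rTensor Q)) :
    CAlgX.UniversallyInjective R (LinearMap.range g).subtype := by
  have hgf : g.rangeRestrict ∘ₗ f = 0 := LinearMap.ext fun l =>
    Subtype.ext ((exact_of_rTensor_R (h R)).apply_apply_eq_zero l)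
  intro Q _ _
  rw [injective_iff_map_eq_zero]
  intro z hz
  obtain ⟨w, rfl⟩ := LinearMap.rTensor_surjective Q g.surjective_rangeRestrict z
  rw [← LinearMap.comp_apply, ← LinearMap.rTensor_comp, LinearMap.subtype_comp_codRestrict] at hz
  obtain ⟨v, rfl⟩ := (h Q w).1 hz
  rw [← LinearMap.comp_apply, ← LinearMap.rTensor_comp, hgf, LinearMap.rTensor_zero, LinearMap.zero_apply]

/-- exactness with pure image stays exact after tensoring -/
theorem exact_rTensor {f : L →ₗ[R] M} {g : M →ₗ[R] N} (h : Function.Exact f g)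
    (hg : CAlgX.UniversallyInjective R (LinearMap.range g).subtype)
    (Q : Type u) [AddCommGroup Q] [Module R Q] : Function.Exact (f.rTensor Q) (g.rTensor Q) := by
  have h1 : Function.Exact f g.rangeRestrict := fun m => by
    rw [← h m]; exact Subtype.ext_iff
  have h2 := rTensor_exact Q h1 g.surjective_rangeRestrict
  intro m
  rw [← h2 m]
  conv_lhs =>
    rw [show g = (LinearMap.range g).subtype ∘ₗ g.rangeRestrict from
      (LinearMap.subtype_comp_codRestrict _ _ _).symm]
  rw [LinearMap.rTensor_comp, LinearMap.comp_apply, map_eq_zero_iff _ (hg Q)]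

theorem exact_lTensor_subtype {A B : Type u} [AddCommGroup A] [Module R A] [AddCommGroup B] [Module R B]
    (C : Type u) [AddCommGroup C] [Module R C] (π : A →ₗ[R] B) (hπ : Function.Surjective π) :
    Function.Exact ((LinearMap.ker π).subtype.lTensor C) (π.lTensor C) :=
  lTensor_exact (R := R) (M := LinearMap.ker π) (N := A) (P := B) C
    (f := (LinearMap.ker π).subtype) (g := π) (LinearMap.exact_subtype_ker_map π) hπ

/-- universally injective kernel from lifting of finitely presented modules -/
theorem universallyInjective_ker_of_lift {g : M →ₗ[R] N}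
    (hlift : ∀ (n : ℕ) (S : Submodule R (Fin n → R)), S.FG →
      ∀ φ : ((Fin n → R) ⧸ S) →ₗ[R] N, ∃ ψ : ((Fin n → R) ⧸ S) →ₗ[R] M, g ∘ₗ ψ = φ) :
    CAlgX.UniversallyInjective R (LinearMap.ker g).subtype := by
  classical
  intro Q _ _
  rw [injective_iff_map_eq_zero]
  intro z hz
  let π : (Q →₀ R) →ₗ[R] Q := Finsupp.linearCombination R id
  have hπ : Function.Surjective π := Finsupp.linearCombination_id_surjective R Q
  obtain ⟨w, rfl⟩ := LinearMap.lTensor_surjective (LinearMap.ker g) hπ z
  have h0 : π.lTensor M ((LinearMap.ker g).subtype.rTensor (Q →₀ R) w) = 0 := by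
    rw [← LinearMap.comp_apply, LinearMap.lTensor_comp_rTensor, ← LinearMap.rTensor_comp_lTensor,
      LinearMap.comp_apply, hz]
  have hex : Function.Exact ((LinearMap.ker π).subtype.lTensor M) (π.lTensor M) :=
    exact_lTensor_subtype M π hπ
  obtain ⟨v, hv⟩ := (hex _).1 h0
  obtain ⟨S, rfl⟩ := TensorProduct.exists_finset v
  simp only [map_sum, LinearMap.lTensor_tmul, Submodule.coe_subtype] at hv
  set n := S.card
  let e := S.equivFin
  let p : Fin n → M := fun l => (e.symm l).1.1
  let k : Fin n → (Q →₀ R) := fun l => ((e.symm l).1.2 : Q →₀ R)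
  have hv' : (LinearMap.ker g).subtype.rTensor (Q →₀ R) w = ∑ l, p l ⊗ₜ k l := by
    rw [← hv, ← Finset.sum_coe_sort]
    exact (Equiv.sum_comp e.symm (fun i : S => i.1.1 ⊗ₜ[R] (i.1.2 : Q →₀ R))).symm
  let B := Finset.univ.biUnion fun l => (k l).support
  have hk : ∀ l, k l = ∑ b ∈ B, k l b • Finsupp.single b (1 : R) := by
    intro l
    conv_lhs => rw [← Finsupp.sum_single (k l), Finsupp.sum_of_support_subset (k l) (s := B)
      (fun x hx => Finset.mem_biUnion.2 ⟨l, Finset.mem_univ l, hx⟩) _ (by simp)]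
    simp
  let rel : Q → (Fin n → R) := fun b l => k l b
  let T : Submodule R (Fin n → R) := Submodule.span R (rel '' (B : Set Q))
  have hT : T.FG := Submodule.fg_span ((Finset.finite_toSet B).image _)
  have hφ : T ≤ LinearMap.ker (Fintype.linearCombination R fun l => g (p l)) := by
    rw [Submodule.span_le]
    rintro _ ⟨b, -, rfl⟩
    have hgk : g ∘ₗ (LinearMap.ker g).subtype = 0 := LinearMap.ext fun x => x.2
    have h1 := congrArg (g.rTensor (Q →₀ R)) hv'
    rw [← LinearMap.comp_apply, ← LinearMap.rTensor_comp, hgk, LinearMap.rTensor_zero,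
      LinearMap.zero_apply] at h1
    have h2 := congrArg (fun t => TensorProduct.rid R N ((Finsupp.lapply b).lTensor N t)) h1
    simp only [map_zero, map_sum, LinearMap.rTensor_tmul, LinearMap.lTensor_tmul, Finsupp.lapply_apply,
      TensorProduct.rid_tmul] at h2
    simpa [rel, Fintype.linearCombination_apply] using h2.symm
  obtain ⟨ψ, hψ⟩ := hlift n T hT (T.liftQ _ hφ)
  let p' : Fin n → M := fun l => ψ (T.mkQ (Pi.single l 1))
  have hgp : ∀ l, g (p' l) = g (p l) := fun l => by
    have := congr($hψ (T.mkQ (Pi.single l 1)))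
    simpa [p', Fintype.linearCombination_apply_single] using this
  let w' : LinearMap.ker g ⊗[R] (Q →₀ R) :=
    ∑ l, (⟨p l - p' l, by simp [hgp]⟩ : LinearMap.ker g) ⊗ₜ k l
  have hzero : ∑ l, p' l ⊗ₜ[R] k l = 0 := by
    calc ∑ l, p' l ⊗ₜ[R] k l = ∑ l, ∑ b ∈ B, (k l b • p' l) ⊗ₜ[R] Finsupp.single b (1 : R) := by
          refine Finset.sum_congr rfl fun l _ => ?_
          conv_lhs => rw [hk l, TensorProduct.tmul_sum]
          simp only [TensorProduct.smul_tmul]
      _ = 0 := by
          rw [Finset.sum_comm]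
          refine Finset.sum_eq_zero fun b hb => ?_
          rw [← TensorProduct.sum_tmul]
          have : ∑ l, k l b • p' l = ψ (T.mkQ (rel b)) := by
            have hrel : rel b = ∑ l, k l b • Pi.single l (1 : R) := by
              rw [pi_eq_sum_univ' (rel b)]
            rw [hrel, map_sum, map_sum]
            simp [p']
          rw [this, show T.mkQ (rel b) = 0 from
            (Submodule.Quotient.mk_eq_zero T).2 (Submodule.subset_span ⟨b, hb, rfl⟩), map_zero,
            TensorProduct.zero_tmul]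
  have hww : w = w' := by
    refine Module.Flat.rTensor_preserves_injective_linearMap (M := Q →₀ R)
      (LinearMap.ker g).subtype (LinearMap.ker g).injective_subtype ?_
    rw [hv']
    simp only [w', map_sum, LinearMap.rTensor_tmul, Submodule.coe_subtype, TensorProduct.sub_tmul,
      Finset.sum_sub_distrib, hzero, sub_zero]
  rw [hww]
  simp only [w', map_sum, LinearMap.lTensor_tmul]
  refine Finset.sum_eq_zero fun l _ => ?_
  rw [show π (k l) = 0 from LinearMap.mem_ker.1 (e.symm l).1.2.2, TensorProduct.tmul_zero]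

variable (R) in
/-- a pure projective cover by a sum of finitely presented modules -/
theorem exists_cover (M : Type u) [AddCommGroup M] [Module R M] :
    ∃ (ι : Type u) (Q : ι → Type u) (_ : ∀ i, AddCommGroup (Q i)) (_ : ∀ i, Module R (Q i)),
      (∀ i, Module.FinitePresentation R (Q i)) ∧
      ∃ g : (Π₀ i, Q i) →ₗ[R] M, Function.Surjective g ∧
        CAlgX.UniversallyInjective R (LinearMap.ker g).subtype := by
  classical
  let ι := Σ n : ℕ, Σ S : {S : Submodule R (Fin n → R) // S.FG}, (((Fin n → R) ⧸ S.1) →ₗ[R] M)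
  let Q : ι → Type u := fun i => (Fin i.1 → R) ⧸ i.2.1.1
  let g : (Π₀ i, Q i) →ₗ[R] M := DFinsupp.lsum ℕ fun i : ι => i.2.2
  have hg : ∀ (i : ι) (x : Q i), g (DFinsupp.single i x) = i.2.2 x := fun i x =>
    DFinsupp.lsum_single _ _ _ _
  refine ⟨ι, Q, inferInstance, inferInstance,
    fun i => Module.finitePresentation_of_surjective i.2.1.1.mkQ (Submodule.mkQ_surjective _)
      (by rw [Submodule.ker_mkQ]; exact i.2.1.2), g, ?_, ?_⟩
  · intro m
    let i : ι := ⟨1, ⟨⊥, Submodule.fg_bot⟩, (Submodule.liftQ _ (Fintype.linearCombination R fun _ : Fin 1 => m)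
      (by simp))⟩
    refine ⟨DFinsupp.single i (Submodule.mkQ _ (Pi.single 0 1)), ?_⟩
    rw [hg]
    simp [i, Fintype.linearCombination_apply_single]
  · refine universallyInjective_ker_of_lift fun n S hS φ => ?_
    let i : ι := ⟨n, ⟨S, hS⟩, φ⟩
    exact ⟨DFinsupp.lsingle (R := R) (M := Q) i, LinearMap.ext fun x => hg i x⟩

/-- a sum of finitely presented modules, and its summands, are pure projective -/
theorem pureProjective_of_summand {P : Type u} [AddCommGroup P] [Module R P] {ι : Type u}
    (Q : ι → Type u) [∀ i, AddCommGroup (Q i)] [∀ i, Module R (Q i)]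
    (hQ : ∀ i, Module.FinitePresentation R (Q i)) (s : P →ₗ[R] (Π₀ i, Q i))
    (r : (Π₀ i, Q i) →ₗ[R] P) (hrs : r ∘ₗ s = LinearMap.id)
    (g : L →ₗ[R] N) (hg : Function.Surjective g)
    (hpure : CAlgX.UniversallyInjective R (LinearMap.ker g).subtype) (φ : P →ₗ[R] N) :
    ∃ ψ : P →ₗ[R] L, g ∘ₗ ψ = φ := by
  classical
  choose h hh using fun i => haveI := hQ i
    CAlgLib.UnivInj.lift_of_finitePresentation (LinearMap.exact_subtype_ker_map g) hg hpure (Q i)
      (φ ∘ₗ r ∘ₗ DFinsupp.lsingle i)
  refine ⟨DFinsupp.lsum ℕ h ∘ₗ s, ?_⟩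
  have : g ∘ₗ DFinsupp.lsum ℕ h = φ ∘ₗ r := DFinsupp.lhom_ext fun i x => by
    simpa using congr($(hh i) x)
  rw [← LinearMap.comp_assoc, this, LinearMap.comp_assoc, hrs, LinearMap.comp_id]

/-- lifting along the image of a map with pure kernel -/
theorem exists_lift {P : Type u} [AddCommGroup P] [Module R P]
    (hP : ∀ ⦃L T : Type u⦄ [AddCommGroup L] [Module R L] [AddCommGroup T] [Module R T] (g : L →ₗ[R] T),
      Function.Surjective g → CAlgX.UniversallyInjective R (LinearMap.ker g).subtype →
      ∀ φ : P →ₗ[R] T, ∃ ψ : P →ₗ[R] L, g ∘ₗ ψ = φ)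
    {c : L →ₗ[R] M} (hker : CAlgX.UniversallyInjective R (LinearMap.ker c).subtype)
    (φ : P →ₗ[R] M) (hφ : ∀ x, φ x ∈ LinearMap.range c) : ∃ ψ : P →ₗ[R] L, c ∘ₗ ψ = φ := by
  obtain ⟨ψ, hψ⟩ := hP c.rangeRestrict c.surjective_rangeRestrict
    (by rw [LinearMap.ker_rangeRestrict]; exact hker) (φ.codRestrict _ hφ)
  exact ⟨ψ, LinearMap.ext fun x => congrArg Subtype.val congr($hψ x)⟩

/-- extension along the coimage of a map with pure range -/
theorem exists_extend {I : Type u} [AddCommGroup I] [Module R I]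
    (hI : ∀ ⦃K L : Type u⦄ [AddCommGroup K] [Module R K] [AddCommGroup L] [Module R L] (f : K →ₗ[R] L),
      CAlgX.UniversallyInjective R f → ∀ φ : K →ₗ[R] I, ∃ ψ : L →ₗ[R] I, ψ ∘ₗ f = φ)
    {c : L →ₗ[R] M} (hrange : CAlgX.UniversallyInjective R (LinearMap.range c).subtype)
    (φ : L →ₗ[R] I) (hφ : LinearMap.ker c ≤ LinearMap.ker φ) : ∃ ψ : M →ₗ[R] I, ψ ∘ₗ c = φ := by
  obtain ⟨ψ, hψ⟩ := hI (LinearMap.range c).subtype hrange
    ((LinearMap.ker c).liftQ φ hφ ∘ₗ c.quotKerEquivRange.symm.toLinearMap)
  refine ⟨ψ, LinearMap.ext fun x => ?_⟩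
  have h := congr($hψ ⟨c x, x, rfl⟩)
  simp only [LinearMap.comp_apply, Submodule.coe_subtype, LinearEquiv.coe_coe] at h
  rw [show c.quotKerEquivRange.symm ⟨c x, x, rfl⟩ = Submodule.Quotient.mk x from
    (LinearEquiv.symm_apply_eq _).2 rfl, Submodule.liftQ_apply] at h
  exact h

end Groth.Agent.PureExtLib
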