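import Groth.Agent.PureExtLib.Basic
import Mathlib.Algebra.Category.ModuleCat.Monoidal.Basic
import Mathlib.Algebra.Category.ModuleCat.Abelian
import Mathlib.Algebra.Homology.ShortComplex.ModuleCat
import Mathlib.Algebra.Homology.QuasiIso
import Mathlib.Algebra.Homology.Single
import Mathlib.Algebra.Homology.Homotopy
import Mathlib.CategoryTheory.Monoidal.Preadditive
import Mathlib.CategoryTheory.Abelian.Projective.Resolution
import Mathlib.CategoryTheory.Abelian.Injective.Resolution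

/-!
# Universally exact resolutions
-/

set_option autoImplicit false
universe u

open CategoryTheory Limits TensorProduct

namespace Groth.Agent.PureExtLib

variable {R : Type u} [CommRing R]

theorem exact_iff_function_exact {X Y Z : ModuleCat.{u} R} (f : X ⟶ Y) (g : Y ⟶ Z) (w : f ≫ g = 0) :
    (ShortComplex.mk f g w).Exact ↔ Function.Exact f.hom g.hom := by
  rw [ShortComplex.moduleCat_exact_iff_range_eq_ker, LinearMap.exact_iff, eq_comm]

/-- universal exactness of an augmented chain complex -/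
structure UExact {M : ModuleCat.{u} R} (K : ChainComplex (ModuleCat.{u} R) ℕ)
    (π : K ⟶ (ChainComplex.single₀ (ModuleCat.{u} R)).obj M) : Prop where
  exact₀ : ∀ (T : Type u) [AddCommGroup T] [Module R T],
    Function.Exact ((K.d 1 0).hom.rTensor T) ((π.f 0).hom.rTensor T)
  surj : ∀ (T : Type u) [AddCommGroup T] [Module R T], Function.Surjective ((π.f 0).hom.rTensor T)
  exact : ∀ (n : ℕ) (T : Type u) [AddCommGroup T] [Module R T],
    Function.Exact ((K.d (n + 2) (n + 1)).hom.rTensor T) ((K.d (n + 1) n).hom.rTensor T)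

theorem quasiIso_tensor_iff {M : ModuleCat.{u} R} (K : ChainComplex (ModuleCat.{u} R) ℕ)
    (π : K ⟶ (ChainComplex.single₀ (ModuleCat.{u} R)).obj M) (T : ModuleCat.{u} R) :
    QuasiIso (((MonoidalCategory.tensorRight T).mapHomologicalComplex (ComplexShape.down ℕ)).map π) ↔
      (Function.Exact ((K.d 1 0).hom.rTensor T) ((π.f 0).hom.rTensor T) ∧
        Function.Surjective ((π.f 0).hom.rTensor T)) ∧
      ∀ n : ℕ, Function.Exact ((K.d (n + 2) (n + 1)).hom.rTensor T) ((K.d (n + 1) n).hom.rTensor T) := by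
  set F := MonoidalCategory.tensorRight T
  set φ := ((F.mapHomologicalComplex (ComplexShape.down ℕ)).map π)
  have hzero : ∀ n : ℕ, IsZero (((F.mapHomologicalComplex (ComplexShape.down ℕ)).obj
      ((ChainComplex.single₀ (ModuleCat.{u} R)).obj M)).X (n + 1)) := fun n =>
    F.map_isZero (HomologicalComplex.isZero_single_obj_X _ _ _ _ (Nat.succ_ne_zero n))
  have h0 : QuasiIsoAt φ 0 ↔ (Function.Exact ((K.d 1 0).hom.rTensor T) ((π.f 0).hom.rTensor T) ∧
      Function.Surjective ((π.f 0).hom.rTensor T)) := by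
    rw [ChainComplex.quasiIsoAt₀_iff, ShortComplex.quasiIso_iff_of_zeros']
    · rw [exact_iff_function_exact, ModuleCat.epi_iff_surjective]
      rfl
    · exact (congrArg F.map (K.shape 0 0 (by simp))).trans (F.map_zero _ _)
    · exact (hzero 0).eq_of_src _ _
    · exact (congrArg F.map (HomologicalComplex.shape _ 0 0 (by simp))).trans (F.map_zero _ _)
  have hs : ∀ n : ℕ, QuasiIsoAt φ (n + 1) ↔
      Function.Exact ((K.d (n + 2) (n + 1)).hom.rTensor T) ((K.d (n + 1) n).hom.rTensor T) := by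
    intro n
    rw [quasiIsoAt_iff_exactAt' (hL := ?_), HomologicalComplex.exactAt_iff' _ (n + 2) (n + 1) n (by simp) (by simp)]
    · exact exact_iff_function_exact _ _ _
    · rw [HomologicalComplex.exactAt_iff]
      exact ShortComplex.exact_of_isZero_X₂ _ (hzero n)
  rw [quasiIso_iff]
  refine ⟨fun h => ⟨h0.1 (h 0), fun n => (hs n).1 (h (n + 1))⟩, fun h n => ?_⟩
  cases n with
  | zero => exact h0.2 h.1
  | succ n => exact (hs n).2 (h.2 n)

theorem uExact_of_quasiIso {M : ModuleCat.{u} R} {K : ChainComplex (ModuleCat.{u} R) ℕ}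
    {π : K ⟶ (ChainComplex.single₀ (ModuleCat.{u} R)).obj M}
    (h : ∀ T : ModuleCat.{u} R,
      QuasiIso (((MonoidalCategory.tensorRight T).mapHomologicalComplex (ComplexShape.down ℕ)).map π)) :
    UExact K π :=
  ⟨fun T _ _ => ((quasiIso_tensor_iff K π (ModuleCat.of R T)).1 (h _)).1.1,
    fun T _ _ => ((quasiIso_tensor_iff K π (ModuleCat.of R T)).1 (h _)).1.2,
    fun n T _ _ => ((quasiIso_tensor_iff K π (ModuleCat.of R T)).1 (h _)).2 n⟩

/-- universal exactness of a coaugmented cochain complex -/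
structure CoUExact {M : ModuleCat.{u} R} (K : CochainComplex (ModuleCat.{u} R) ℕ)
    (η : (CochainComplex.single₀ (ModuleCat.{u} R)).obj M ⟶ K) : Prop where
  exact₀ : ∀ (T : Type u) [AddCommGroup T] [Module R T],
    Function.Exact ((η.f 0).hom.rTensor T) ((K.d 0 1).hom.rTensor T)
  inj : ∀ (T : Type u) [AddCommGroup T] [Module R T], Function.Injective ((η.f 0).hom.rTensor T)
  exact : ∀ (n : ℕ) (T : Type u) [AddCommGroup T] [Module R T],
    Function.Exact ((K.d n (n + 1)).hom.rTensor T) ((K.d (n + 1) (n + 2)).hom.rTensor T)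

theorem quasiIso_tensor_iff_co {M : ModuleCat.{u} R} (K : CochainComplex (ModuleCat.{u} R) ℕ)
    (η : (CochainComplex.single₀ (ModuleCat.{u} R)).obj M ⟶ K) (T : ModuleCat.{u} R) :
    QuasiIso (((MonoidalCategory.tensorRight T).mapHomologicalComplex (ComplexShape.up ℕ)).map η) ↔
      (Function.Exact ((η.f 0).hom.rTensor T) ((K.d 0 1).hom.rTensor T) ∧
        Function.Injective ((η.f 0).hom.rTensor T)) ∧
      ∀ n : ℕ, Function.Exact ((K.d n (n + 1)).hom.rTensor T) ((K.d (n + 1) (n + 2)).hom.rTensor T) := by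
  set F := MonoidalCategory.tensorRight T
  set φ := ((F.mapHomologicalComplex (ComplexShape.up ℕ)).map η)
  have hzero : ∀ n : ℕ, IsZero (((F.mapHomologicalComplex (ComplexShape.up ℕ)).obj
      ((CochainComplex.single₀ (ModuleCat.{u} R)).obj M)).X (n + 1)) := fun n =>
    F.map_isZero (HomologicalComplex.isZero_single_obj_X _ _ _ _ (Nat.succ_ne_zero n))
  have h0 : QuasiIsoAt φ 0 ↔ (Function.Exact ((η.f 0).hom.rTensor T) ((K.d 0 1).hom.rTensor T) ∧
      Function.Injective ((η.f 0).hom.rTensor T)) := by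
    rw [CochainComplex.quasiIsoAt₀_iff, ShortComplex.quasiIso_iff_of_zeros]
    · rw [exact_iff_function_exact, ModuleCat.mono_iff_injective]
      rfl
    · exact (congrArg F.map (HomologicalComplex.shape _ 0 0 (by simp))).trans (F.map_zero _ _)
    · exact (hzero 0).eq_of_tgt _ _
    · exact (congrArg F.map (K.shape 0 0 (by simp))).trans (F.map_zero _ _)
  have hs : ∀ n : ℕ, QuasiIsoAt φ (n + 1) ↔
      Function.Exact ((K.d n (n + 1)).hom.rTensor T) ((K.d (n + 1) (n + 2)).hom.rTensor T) := by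
    intro n
    rw [quasiIsoAt_iff_exactAt (hK := ?_), HomologicalComplex.exactAt_iff' _ n (n + 1) (n + 2) (by simp) (by simp)]
    · exact exact_iff_function_exact _ _ _
    · rw [HomologicalComplex.exactAt_iff]
      exact ShortComplex.exact_of_isZero_X₂ _ (hzero n)
  rw [quasiIso_iff]
  refine ⟨fun h => ⟨h0.1 (h 0), fun n => (hs n).1 (h (n + 1))⟩, fun h n => ?_⟩
  cases n with
  | zero => exact h0.2 h.1
  | succ n => exact (hs n).2 (h.2 n)

theorem coUExact_of_quasiIso {M : ModuleCat.{u} R} {K : CochainComplex (ModuleCat.{u} R) ℕ}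
    {η : (CochainComplex.single₀ (ModuleCat.{u} R)).obj M ⟶ K}
    (h : ∀ T : ModuleCat.{u} R,
      QuasiIso (((MonoidalCategory.tensorRight T).mapHomologicalComplex (ComplexShape.up ℕ)).map η)) :
    CoUExact K η :=
  ⟨fun T _ _ => ((quasiIso_tensor_iff_co K η (ModuleCat.of R T)).1 (h _)).1.1,
    fun T _ _ => ((quasiIso_tensor_iff_co K η (ModuleCat.of R T)).1 (h _)).1.2,
    fun n T _ _ => ((quasiIso_tensor_iff_co K η (ModuleCat.of R T)).1 (h _)).2 n⟩

/-- pure projective -/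
def PProj (P : ModuleCat.{u} R) : Prop :=
  ∀ ⦃L T : Type u⦄ [AddCommGroup L] [Module R L] [AddCommGroup T] [Module R T] (g : L →ₗ[R] T),
    Function.Surjective g → CAlgX.UniversallyInjective R (LinearMap.ker g).subtype →
    ∀ φ : P →ₗ[R] T, ∃ ψ : P →ₗ[R] L, g ∘ₗ ψ = φ

/-- pure injective -/
def PInj (I : ModuleCat.{u} R) : Prop :=
  ∀ ⦃K L : Type u⦄ [AddCommGroup K] [Module R K] [AddCommGroup L] [Module R L] (g : K →ₗ[R] L),
    CAlgX.UniversallyInjective R g → ∀ φ : K →ₗ[R] I, ∃ ψ : L →ₗ[R] I, ψ ∘ₗ g = φ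

/-- lifting at a spot of a universally exact sequence `L₂ → L₁ → L₀ → L` -/
theorem exists_liftHom {P L₂ L₁ L₀ L : ModuleCat.{u} R} (hP : PProj P) (a : L₂ ⟶ L₁) (b : L₁ ⟶ L₀)
    (c : L₀ ⟶ L)
    (hab : ∀ (T : Type u) [AddCommGroup T] [Module R T],
      Function.Exact (a.hom.rTensor T) (b.hom.rTensor T))
    (hpure : CAlgX.UniversallyInjective R (LinearMap.range a.hom).subtype)
    (hbc : Function.Exact b.hom c.hom) (φ : P ⟶ L₀) (hφ : φ ≫ c = 0) :
    ∃ ψ : P ⟶ L₁, ψ ≫ b = φ := by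
  obtain ⟨ψ, hψ⟩ := exists_lift hP (c := b.hom)
    (by rw [(exact_of_rTensor_R (hab R)).linearMap_ker_eq]; exact hpure) φ.hom
    (fun x => (hbc _).1 congr($(hφ).hom x))
  exact ⟨ModuleCat.ofHom ψ, ModuleCat.hom_ext hψ⟩

/-- extension at a spot of a universally exact sequence `L → L₀ → L₁` -/
theorem exists_extendHom {I L L₀ L₁ : ModuleCat.{u} R} (hI : PInj I) (a : L ⟶ L₀) (b : L₀ ⟶ L₁)
    (hab : ∀ (T : Type u) [AddCommGroup T] [Module R T],
      Function.Exact (a.hom.rTensor T) (b.hom.rTensor T))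
    (φ : L₀ ⟶ I) (hφ : a ≫ φ = 0) : ∃ ψ : L₁ ⟶ I, b ≫ ψ = φ := by
  obtain ⟨ψ, hψ⟩ := exists_extend hI (c := b.hom) (universallyInjective_range hab) φ.hom
    (fun x hx => by
      obtain ⟨y, rfl⟩ := (exact_of_rTensor_R (hab R) x).1 hx
      exact congr($(hφ).hom y))
  exact ⟨ModuleCat.ofHom ψ, ModuleCat.hom_ext hψ⟩

section Chain

variable {M : ModuleCat.{u} R} {K : ChainComplex (ModuleCat.{u} R) ℕ}
  {π : K ⟶ (ChainComplex.single₀ (ModuleCat.{u} R)).obj M}

theorem UExact.lift_aug (h : UExact K π) {P : ModuleCat.{u} R} (hP : PProj P)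
    (φ : P ⟶ ((ChainComplex.single₀ (ModuleCat.{u} R)).obj M).X 0) : ∃ ψ : P ⟶ K.X 0, ψ ≫ π.f 0 = φ := by
  obtain ⟨ψ, hψ⟩ := exists_lift hP (c := (π.f 0).hom)
    (by
      rw [(exact_of_rTensor_R (h.exact₀ R)).linearMap_ker_eq]
      exact universallyInjective_range (h.exact 0)) φ.hom
    (fun x => surjective_of_rTensor_R (h.surj R) _)
  exact ⟨ModuleCat.ofHom ψ, ModuleCat.hom_ext hψ⟩

theorem UExact.lift_zero (h : UExact K π) {P : ModuleCat.{u} R} (hP : PProj P) (φ : P ⟶ K.X 0)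
    (hφ : φ ≫ π.f 0 = 0) : ∃ ψ : P ⟶ K.X 1, ψ ≫ K.d 1 0 = φ :=
  exists_liftHom hP (K.d 2 1) (K.d 1 0) (π.f 0) (h.exact 0) (universallyInjective_range (h.exact 1))
    (exact_of_rTensor_R (h.exact₀ R)) φ hφ

theorem UExact.lift_succ (h : UExact K π) {P : ModuleCat.{u} R} (hP : PProj P) (n : ℕ)
    (φ : P ⟶ K.X (n + 1)) (hφ : φ ≫ K.d (n + 1) n = 0) :
    ∃ ψ : P ⟶ K.X (n + 2), ψ ≫ K.d (n + 2) (n + 1) = φ :=
  exists_liftHom hP (K.d (n + 3) (n + 2)) (K.d (n + 2) (n + 1)) (K.d (n + 1) n) (h.exact (n + 1))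
    (universallyInjective_range (h.exact (n + 2))) (exact_of_rTensor_R (h.exact n R)) φ hφ

theorem exists_chainMap {M N : ModuleCat.{u} R} (f : M ⟶ N) (P N' : ChainComplex (ModuleCat.{u} R) ℕ)
    (π : P ⟶ (ChainComplex.single₀ (ModuleCat.{u} R)).obj M)
    (ε : N' ⟶ (ChainComplex.single₀ (ModuleCat.{u} R)).obj N)
    (hP : ∀ n, PProj (P.X n)) (h : UExact N' ε) :
    ∃ φ : P ⟶ N', φ ≫ ε = π ≫ (ChainComplex.single₀ (ModuleCat.{u} R)).map f := by
  set g := π ≫ (ChainComplex.single₀ (ModuleCat.{u} R)).map f with hg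
  choose z hz using h.lift_aug (hP 0) (g.f 0)
  obtain ⟨o, ho⟩ := h.lift_zero (hP 1) (P.d 1 0 ≫ z) (by
    rw [Category.assoc, hz, ← g.comm 1 0, HomologicalComplex.single_obj_d, comp_zero])
  have hsucc : ∀ (n : ℕ) (a : P.X n ⟶ N'.X n) (b : P.X (n + 1) ⟶ N'.X (n + 1)),
      b ≫ N'.d (n + 1) n = P.d (n + 1) n ≫ a →
      ∃ c : P.X (n + 2) ⟶ N'.X (n + 2), c ≫ N'.d (n + 2) (n + 1) = P.d (n + 2) (n + 1) ≫ b := by
    intro n a b w
    exact h.lift_succ (hP (n + 2)) n _ (by rw [Category.assoc, w, HomologicalComplex.d_comp_d_assoc, zero_comp])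
  choose s hs using hsucc
  refine ⟨ChainComplex.mkHom P N' z o ho fun n p => ⟨s n p.1 p.2.1 p.2.2, hs n p.1 p.2.1 p.2.2⟩, ?_⟩
  apply HomologicalComplex.to_single_hom_ext
  simpa using hz

theorem exists_homotopy {P N' : ChainComplex (ModuleCat.{u} R) ℕ} {N : ModuleCat.{u} R}
    (ε : N' ⟶ (ChainComplex.single₀ (ModuleCat.{u} R)).obj N)
    (hP : ∀ n, PProj (P.X n)) (h : UExact N' ε) (f : P ⟶ N') (hf : f ≫ ε = 0) :
    Nonempty (Homotopy f 0) := by
  obtain ⟨z, hz⟩ := h.lift_zero (hP 0) (f.f 0) (by rw [← HomologicalComplex.comp_f, hf]; rfl)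
  obtain ⟨o, ho⟩ := h.lift_succ (hP 1) 0 (f.f 1 - P.d 1 0 ≫ z) (by
    rw [Preadditive.sub_comp, Category.assoc, hz, HomologicalComplex.Hom.comm, sub_self])
  have hsucc : ∀ (n : ℕ) (a : P.X n ⟶ N'.X (n + 1)) (b : P.X (n + 1) ⟶ N'.X (n + 2)),
      f.f (n + 1) = P.d (n + 1) n ≫ a + b ≫ N'.d (n + 2) (n + 1) →
      ∃ c : P.X (n + 2) ⟶ N'.X (n + 3),
        c ≫ N'.d (n + 3) (n + 2) = f.f (n + 2) - P.d (n + 2) (n + 1) ≫ b := by
    intro n a b w
    exact h.lift_succ (hP (n + 2)) (n + 1) _ (by simp [w])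
  choose s hs using hsucc
  exact ⟨Homotopy.mkInductive f z (by rw [hz]) o (by rw [ho]; simp)
    fun n p => ⟨s n p.1 p.2.1 p.2.2, by rw [hs n p.1 p.2.1 p.2.2]; simp⟩⟩

end Chain

section Cochain

theorem exists_cochainMap {M N : ModuleCat.{u} R} (f : M ⟶ N) (M' I : CochainComplex (ModuleCat.{u} R) ℕ)
    (η : (CochainComplex.single₀ (ModuleCat.{u} R)).obj M ⟶ M')
    (ε : (CochainComplex.single₀ (ModuleCat.{u} R)).obj N ⟶ I)
    (h : CoUExact M' η) (hI : ∀ n, PInj (I.X n)) :
    ∃ φ : M' ⟶ I, η ≫ φ = (CochainComplex.single₀ (ModuleCat.{u} R)).map f ≫ ε := by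
  set g := (CochainComplex.single₀ (ModuleCat.{u} R)).map f ≫ ε with hg
  obtain ⟨z₀, hz₀⟩ := hI 0 (η.f 0).hom (fun T _ _ => h.inj T) (g.f 0).hom
  let z : M'.X 0 ⟶ I.X 0 := ModuleCat.ofHom z₀
  have hz : η.f 0 ≫ z = g.f 0 := ModuleCat.hom_ext hz₀
  obtain ⟨o, ho⟩ := exists_extendHom (hI 1) (η.f 0) (M'.d 0 1) h.exact₀ (z ≫ I.d 0 1) (by
    rw [reassoc_of% hz, g.comm 0 1, HomologicalComplex.single_obj_d, zero_comp])
  have hsucc : ∀ (n : ℕ) (a : M'.X n ⟶ I.X n) (b : M'.X (n + 1) ⟶ I.X (n + 1)),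
      a ≫ I.d n (n + 1) = M'.d n (n + 1) ≫ b →
      ∃ c : M'.X (n + 2) ⟶ I.X (n + 2), M'.d (n + 1) (n + 2) ≫ c = b ≫ I.d (n + 1) (n + 2) := by
    intro n a b w
    exact exists_extendHom (hI (n + 2)) (M'.d n (n + 1)) (M'.d (n + 1) (n + 2)) (h.exact n) _
      (by rw [← reassoc_of% w, HomologicalComplex.d_comp_d, comp_zero])
  choose s hs using hsucc
  refine ⟨CochainComplex.mkHom M' I z o ho.symm fun n p =>
    ⟨s n p.1 p.2.1 p.2.2, (hs n p.1 p.2.1 p.2.2).symm⟩, ?_⟩
  apply HomologicalComplex.from_single_hom_ext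
  simpa using hz

theorem exists_cohomotopy {M : ModuleCat.{u} R} {M' I : CochainComplex (ModuleCat.{u} R) ℕ}
    (η : (CochainComplex.single₀ (ModuleCat.{u} R)).obj M ⟶ M')
    (h : CoUExact M' η) (hI : ∀ n, PInj (I.X n)) (f : M' ⟶ I) (hf : η ≫ f = 0) :
    Nonempty (Homotopy f 0) := by
  obtain ⟨z, hz⟩ := exists_extendHom (hI 0) (η.f 0) (M'.d 0 1) h.exact₀ (f.f 0)
    (by rw [← HomologicalComplex.comp_f, hf]; rfl)
  obtain ⟨o, ho⟩ := exists_extendHom (hI 1) (M'.d 0 1) (M'.d 1 2) (h.exact 0) (f.f 1 - z ≫ I.d 0 1) (by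
    rw [Preadditive.comp_sub, reassoc_of% hz, HomologicalComplex.Hom.comm, sub_self])
  have hsucc : ∀ (n : ℕ) (a : M'.X (n + 1) ⟶ I.X n) (b : M'.X (n + 2) ⟶ I.X (n + 1)),
      f.f (n + 1) = a ≫ I.d n (n + 1) + M'.d (n + 1) (n + 2) ≫ b →
      ∃ c : M'.X (n + 3) ⟶ I.X (n + 2),
        M'.d (n + 2) (n + 3) ≫ c = f.f (n + 2) - b ≫ I.d (n + 1) (n + 2) := by
    intro n a b w
    refine exists_extendHom (hI (n + 2)) (M'.d (n + 1) (n + 2)) (M'.d (n + 2) (n + 3)) (h.exact (n + 1)) _ ?_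
    rw [Preadditive.comp_sub, ← HomologicalComplex.Hom.comm, w, Preadditive.add_comp, Category.assoc,
      Category.assoc, HomologicalComplex.d_comp_d, comp_zero, zero_add, sub_self]
  choose s hs using hsucc
  exact ⟨Homotopy.mkCoinductive f z (by rw [hz]) o (by rw [ho]; simp)
    fun n p => ⟨s n p.1 p.2.1 p.2.2, by rw [hs n p.1 p.2.1 p.2.2]; simp⟩⟩

end Cochain

section Existence

/-- one stage of a resolution -/
structure Stage (R : Type u) [CommRing R] where
  A : ModuleCat.{u} R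
  B : ModuleCat.{u} R
  f : A ⟶ B

theorem exists_coverHom (M : ModuleCat.{u} R) :
    ∃ (A : ModuleCat.{u} R) (g : A ⟶ M), Function.Surjective g.hom ∧
      CAlgX.UniversallyInjective R (LinearMap.ker g.hom).subtype ∧
      ∃ (ι : Type u) (Q : ι → Type u) (_ : ∀ i, AddCommGroup (Q i)) (_ : ∀ i, Module R (Q i)),
        (∀ i, Module.FinitePresentation R (Q i)) ∧
        ∃ (s : A →ₗ[R] (Π₀ i, Q i)) (r : (Π₀ i, Q i) →ₗ[R] A), r ∘ₗ s = LinearMap.id := by
  obtain ⟨ι, Q, hA, hM, hQ, g, hg, hp⟩ := exists_cover R (M : Type u)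
  exact ⟨ModuleCat.of R (Π₀ i, Q i), ModuleCat.ofHom g, hg, hp, ι, Q, hA, hM, hQ, LinearMap.id,
    LinearMap.id, rfl⟩

/-- a chosen pure cover -/
noncomputable def coverA (M : ModuleCat.{u} R) : ModuleCat.{u} R := (exists_coverHom M).choose

/-- the map of a chosen pure cover -/
noncomputable def coverMap (M : ModuleCat.{u} R) : coverA M ⟶ M :=
  (exists_coverHom M).choose_spec.choose

/-- the next stage -/
noncomputable def next (s : Stage R) : Stage R :=
  ⟨coverA (ModuleCat.of R (LinearMap.ker s.f.hom)), s.A,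
    ModuleCat.ofHom ((LinearMap.ker s.f.hom).subtype ∘ₗ (coverMap (ModuleCat.of R (LinearMap.ker s.f.hom))).hom)⟩

theorem cover_spec (M : ModuleCat.{u} R) :
    Function.Surjective (coverMap M).hom ∧
      CAlgX.UniversallyInjective R (LinearMap.ker (coverMap M).hom).subtype ∧
      ∃ (ι : Type u) (Q : ι → Type u) (_ : ∀ i, AddCommGroup (Q i)) (_ : ∀ i, Module R (Q i)),
        (∀ i, Module.FinitePresentation R (Q i)) ∧
        ∃ (s : coverA M →ₗ[R] (Π₀ i, Q i)) (r : (Π₀ i, Q i) →ₗ[R] coverA M), r ∘ₗ s = LinearMap.id :=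
  (exists_coverHom M).choose_spec.choose_spec

theorem next_pure (s : Stage R) :
    CAlgX.UniversallyInjective R (LinearMap.ker (next s).f.hom).subtype := by
  have h : LinearMap.ker (next s).f.hom =
      LinearMap.ker (coverMap (ModuleCat.of R (LinearMap.ker s.f.hom))).hom :=
    LinearMap.ker_comp_of_ker_eq_bot _ (Submodule.ker_subtype _)
  rw [h]
  exact (cover_spec _).2.1

theorem range_next (s : Stage R) :
    LinearMap.range (next s).f.hom = LinearMap.ker s.f.hom := by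
  show LinearMap.range ((LinearMap.ker s.f.hom).subtype ∘ₗ
      (coverMap (ModuleCat.of R (LinearMap.ker s.f.hom))).hom) = _
  rw [LinearMap.range_comp, LinearMap.range_eq_top.2 (cover_spec _).1, Submodule.map_top,
    Submodule.range_subtype]

variable (M : ModuleCat.{u} R)

/-- the stages -/
noncomputable def stage : ℕ → Stage R
  | 0 => ⟨coverA M, M, coverMap M⟩
  | n + 1 => next (stage n)

theorem stage_pure : ∀ n, CAlgX.UniversallyInjective R (LinearMap.ker (stage M n).f.hom).subtype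
  | 0 => (cover_spec M).2.1
  | n + 1 => next_pure (stage M n)

theorem range_stage (n : ℕ) :
    LinearMap.range (stage M (n + 1)).f.hom = LinearMap.ker (stage M n).f.hom :=
  range_next (stage M n)

theorem exists_pureProjective_resolution :
    ∃ (P : ChainComplex (ModuleCat.{u} R) ℕ) (π : P ⟶ (ChainComplex.single₀ (ModuleCat.{u} R)).obj M),
      (∀ n : ℕ, ∃ (ι : Type u) (Q : ι → Type u) (_ : ∀ i, AddCommGroup (Q i)) (_ : ∀ i, Module R (Q i)),
        (∀ i, Module.FinitePresentation R (Q i)) ∧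
        ∃ (s : P.X n →ₗ[R] (Π₀ i, Q i)) (r : (Π₀ i, Q i) →ₗ[R] P.X n), r ∘ₗ s = LinearMap.id) ∧
      ∀ N : ModuleCat.{u} R,
        QuasiIso (((MonoidalCategory.tensorRight N).mapHomologicalComplex (ComplexShape.down ℕ)).map π) := by
  let X : ℕ → ModuleCat.{u} R := fun n => (stage M n).A
  let d : ∀ n, X (n + 1) ⟶ X n := fun n => (stage M (n + 1)).f
  have sq : ∀ n, d (n + 1) ≫ d n = 0 := fun n => ModuleCat.hom_ext (LinearMap.ext fun x => by
    have : (stage M (n + 2)).f.hom x ∈ LinearMap.ker (stage M (n + 1)).f.hom :=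
      range_stage M (n + 1) ▸ ⟨x, rfl⟩
    exact this)
  let P := ChainComplex.of X d sq
  have hd : ∀ n, P.d (n + 1) n = d n := fun n => ChainComplex.of_d ..
  have hπ : P.d 1 0 ≫ (stage M 0).f = 0 := by
    rw [hd]
    refine ModuleCat.hom_ext (LinearMap.ext fun x => ?_)
    have : (stage M 1).f.hom x ∈ LinearMap.ker (stage M 0).f.hom := range_stage M 0 ▸ ⟨x, rfl⟩
    exact this
  let π : P ⟶ (ChainComplex.single₀ (ModuleCat.{u} R)).obj M :=
    (ChainComplex.toSingle₀Equiv P M).symm ⟨(stage M 0).f, hπ⟩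
  have hπ0 : π.f 0 = (stage M 0).f := ChainComplex.toSingle₀Equiv_symm_apply_f_zero _ _
  have hexact : ∀ n, Function.Exact (stage M (n + 1)).f.hom (stage M n).f.hom := fun n =>
    LinearMap.exact_iff.2 (range_stage M n).symm
  have hrange : ∀ n, CAlgX.UniversallyInjective R (LinearMap.range (stage M n).f.hom).subtype := by
    intro n
    cases n with
    | zero =>
      rw [LinearMap.range_eq_top.2 (show Function.Surjective (stage M 0).f.hom from (cover_spec M).1)]
      intro Q _ _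
      exact ((Submodule.topEquiv (R := R) (M := (stage M 0).B)).rTensor Q).injective
    | succ n => rw [range_stage M n]; exact stage_pure M n
  refine ⟨P, π, fun n => ?_, fun N => (quasiIso_tensor_iff P π N).2 ⟨⟨?_, ?_⟩, fun n => ?_⟩⟩
  · cases n with
    | zero => exact (cover_spec M).2.2
    | succ n => exact (cover_spec (ModuleCat.of R (LinearMap.ker (stage M n).f.hom))).2.2
  · rw [hd, hπ0]; exact exact_rTensor (hexact 0) (hrange 0) N
  · rw [hπ0]; exact LinearMap.rTensor_surjective N (cover_spec M).1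
  · rw [hd, hd]; exact exact_rTensor (hexact (n + 1)) (hrange (n + 1)) N

/-- the next stage of the injective side -/
noncomputable def conext (s : Stage R) : Stage R :=
  ⟨s.B, ModuleCat.of R (CharacterModule (CharacterModule (s.B ⧸ LinearMap.range s.f.hom))),
    ModuleCat.ofHom (PureExt.charEval R _ ∘ₗ (LinearMap.range s.f.hom).mkQ)⟩

/-- the stages of the injective side -/
noncomputable def costage : ℕ → Stage R
  | 0 => ⟨M, ModuleCat.of R (CharacterModule (CharacterModule M)), ModuleCat.ofHom (PureExt.charEval R M)⟩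
  | n + 1 => conext (costage n)

theorem exists_pureInjective_resolution :
    ∃ (I : CochainComplex (ModuleCat.{u} R) ℕ) (η : (CochainComplex.single₀ (ModuleCat.{u} R)).obj M ⟶ I),
      (∀ n : ℕ, PInj (I.X n)) ∧
      ∀ T : ModuleCat.{u} R,
      QuasiIso (((MonoidalCategory.tensorRight T).mapHomologicalComplex (ComplexShape.up ℕ)).map η) := by
  let X : ℕ → ModuleCat.{u} R := fun n => (costage M n).B
  let d : ∀ n, X n ⟶ X (n + 1) := fun n => (costage M (n + 1)).f
  have hd0 : ∀ n, (costage M n).f ≫ (costage M (n + 1)).f = 0 := fun n =>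
    ModuleCat.hom_ext (LinearMap.ext fun x => by
      show PureExt.charEval R _ ((LinearMap.range (costage M n).f.hom).mkQ ((costage M n).f.hom x)) = 0
      rw [show (LinearMap.range (costage M n).f.hom).mkQ ((costage M n).f.hom x) = 0 from
        (Submodule.Quotient.mk_eq_zero _).2 ⟨x, rfl⟩, map_zero])
  let I := CochainComplex.of X d fun n => hd0 (n + 1)
  have hd : ∀ n, I.d n (n + 1) = d n := fun n => CochainComplex.of_d ..
  let η : (CochainComplex.single₀ (ModuleCat.{u} R)).obj M ⟶ I :=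
    HomologicalComplex.mkHomFromSingle (costage M 0).f (fun j hj => by
      obtain rfl : 0 + 1 = j := hj
      rw [hd]; exact hd0 0)
  have hη : η.f 0 = (costage M 0).f :=
    (HomologicalComplex.mkHomFromSingle_f _ _).trans (Category.id_comp _)
  have hex : ∀ (n : ℕ) (T : Type u) [AddCommGroup T] [Module R T],
      Function.Exact ((costage M n).f.hom.rTensor T) ((costage M (n + 1)).f.hom.rTensor T) := by
    intro n T _ _ x
    have h := rTensor_exact T (LinearMap.exact_map_mkQ_range (costage M n).f.hom)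
      (Submodule.mkQ_surjective _) x
    rw [← h]
    show (PureExt.charEval R _ ∘ₗ (LinearMap.range (costage M n).f.hom).mkQ).rTensor T x = 0 ↔ _
    rw [LinearMap.rTensor_comp, LinearMap.comp_apply,
      map_eq_zero_iff _ (universallyInjective_charEval _ T)]
  refine ⟨I, η, fun n => ?_, fun T => (quasiIso_tensor_iff_co I η T).2 ⟨⟨?_, ?_⟩, fun n => ?_⟩⟩
  · cases n with
    | zero => exact pureInjective_char _
    | succ n => exact pureInjective_char _
  · rw [hη, hd]; exact hex 0 T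
  · rw [hη]; exact universallyInjective_charEval (M : Type u) T
  · rw [hd, hd]; exact hex (n + 1) T

end Existence

end Groth.Agent.PureExtLib
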