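import Groth.Agent.CAlgMisc.McCoy
import Mathlib.Algebra.Module.Projective
import Mathlib.LinearAlgebra.Matrix.ToLin
import Mathlib.LinearAlgebra.TensorProduct.Map
import Mathlib.LinearAlgebra.TensorProduct.Finiteness

/-!
# Property (P): injective maps of projective modules are universally injective
-/

set_option autoImplicit false
universe u

open TensorProduct

namespace Groth.Agent.PureExtLib

variable {R : Type u} [CommRing R]

theorem exists_leftInverse_of_minorIdeal_eq_top {m n : ℕ} (A : Matrix (Fin n) (Fin m) R)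
    (h : CAlgX.minorIdeal A m = ⊤) : ∃ L : Matrix (Fin m) (Fin n) R, L * A = 1 := by
  classical
  have hmem : ∀ a ∈ CAlgX.minorIdeal A m, ∃ L : Matrix (Fin m) (Fin n) R, L * A = a • 1 := by
    intro a ha
    induction ha using Submodule.span_induction with
    | mem x hx =>
      obtain ⟨⟨f, g⟩, rfl⟩ := hx
      have e : A.submatrix f g = A.submatrix f id * (1 : Matrix (Fin m) (Fin m) R).submatrix id g := by
        ext i j
        simp [Matrix.mul_apply, Matrix.one_apply]
      refine ⟨((1 : Matrix (Fin m) (Fin m) R).submatrix id g).det •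
        ((A.submatrix f id).adjugate * (1 : Matrix (Fin n) (Fin n) R).submatrix f id), ?_⟩
      rw [Matrix.smul_mul, Matrix.mul_assoc, show (1 : Matrix (Fin n) (Fin n) R).submatrix f id * A =
        A.submatrix f id from by ext i j; simp [Matrix.mul_apply, Matrix.one_apply], Matrix.adjugate_mul,
        smul_smul]
      show _ = (A.submatrix f g).det • (1 : Matrix (Fin m) (Fin m) R)
      rw [e, Matrix.det_mul, mul_comm]
    | zero => exact ⟨0, by simp⟩
    | add x y _ _ hx hy =>
      obtain ⟨L₁, h₁⟩ := hx; obtain ⟨L₂, h₂⟩ := hy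
      exact ⟨L₁ + L₂, by rw [Matrix.add_mul, h₁, h₂, add_smul]⟩
    | smul c x _ hx =>
      obtain ⟨L, hL⟩ := hx
      exact ⟨c • L, by rw [Matrix.smul_mul, hL, smul_smul]; rfl⟩
  obtain ⟨L, hL⟩ := hmem 1 (h ▸ trivial)
  exact ⟨L, by rw [hL, one_smul]⟩

theorem exists_leftInverse_of_injective
    (hP : ∀ I : Ideal R, I.FG → I ≠ ⊤ → I.annihilator ≠ ⊥) {m n : ℕ}
    (v : (Fin m → R) →ₗ[R] (Fin n → R)) (hv : Function.Injective v) :
    ∃ w : (Fin n → R) →ₗ[R] (Fin m → R), w ∘ₗ v = LinearMap.id := by
  classical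
  have hA : Matrix.mulVecLin (LinearMap.toMatrix' v) = v :=
    (Matrix.toLin'_toMatrix' v)
  obtain ⟨L, hL⟩ := exists_leftInverse_of_minorIdeal_eq_top (LinearMap.toMatrix' v) (by
    by_contra hne
    refine hP _ (Submodule.fg_span (Set.finite_range _)) hne ?_
    exact (CAlgMisc.injective_iff _).1 (by rw [hA]; exact hv))
  refine ⟨Matrix.mulVecLin L, ?_⟩
  conv_lhs => rw [← hA, ← Matrix.mulVecLin_mul, hL]
  exact Matrix.mulVecLin_one

theorem universallyInjective_finsupp
    (hP : ∀ I : Ideal R, I.FG → I ≠ ⊤ → I.annihilator ≠ ⊥) {α β : Type u}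
    (u : (α →₀ R) →ₗ[R] (β →₀ R)) (hu : Function.Injective u) :
    CAlgX.UniversallyInjective R u := by
  classical
  intro Q _ _
  rw [injective_iff_map_eq_zero]
  intro z hz
  obtain ⟨S, rfl⟩ := TensorProduct.exists_finset z
  let s := S.biUnion fun p => p.1.support
  let m := s.card
  let e := s.equivFin
  let j : (Fin m → R) →ₗ[R] (α →₀ R) :=
    Fintype.linearCombination R fun l => Finsupp.single ((e.symm l : s) : α) (1 : R)
  let res : (α →₀ R) →ₗ[R] (Fin m → R) := LinearMap.pi fun l => Finsupp.lapply ((e.symm l : s) : α)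
  have hjres : ∀ x : α →₀ R, x.support ⊆ s → j (res x) = x := by
    intro x hx
    simp only [j, res, Fintype.linearCombination_apply, LinearMap.pi_apply, Finsupp.lapply_apply,
      Finsupp.smul_single, smul_eq_mul, mul_one]
    rw [Equiv.sum_comp e.symm (fun i : s => Finsupp.single (i : α) (x i)),
      Finset.sum_coe_sort s (fun i => Finsupp.single i (x i))]
    conv_rhs => rw [← Finsupp.sum_single x, Finsupp.sum_of_support_subset x hx _ (by simp)]
  have hjinj : Function.Injective j := by
    refine Function.LeftInverse.injective (g := res) fun c => funext fun l => ?_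
    simp [j, res, Fintype.linearCombination_apply, Finsupp.single_apply, Subtype.val_inj]
  set v := u ∘ₗ j
  let t := Finset.univ.biUnion fun l => (v (Pi.single l 1)).support
  have ht : ∀ c, (v c).support ⊆ t := by
    intro c b hb
    by_contra hbt
    rw [Finsupp.mem_support_iff] at hb
    apply hb
    rw [pi_eq_sum_univ' c, map_sum, Finsupp.finsetSum_apply]
    refine Finset.sum_eq_zero fun l _ => ?_
    rw [map_smul, Finsupp.smul_apply, Finsupp.notMem_support_iff.1 fun h => hbt (Finset.mem_biUnion.2 ⟨l, Finset.mem_univ l, h⟩),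
      smul_zero]
  let p : (β →₀ R) →ₗ[R] (Fin t.card → R) := LinearMap.pi fun l => Finsupp.lapply ((t.equivFin.symm l : t) : β)
  have hpv : Function.Injective (p ∘ₗ v) := by
    rw [injective_iff_map_eq_zero]
    intro c hc
    apply hjinj
    apply hu
    rw [map_zero, map_zero]
    ext b
    by_cases hb : b ∈ t
    · simpa [p, v] using congrFun hc (t.equivFin ⟨b, hb⟩)
    · exact Finsupp.notMem_support_iff.1 fun h => hb (ht c h)
  obtain ⟨w, hw⟩ := exists_leftInverse_of_injective hP _ hpv
  have hz' : ∑ i ∈ S, i.1 ⊗ₜ[R] i.2 = j.rTensor Q (∑ i ∈ S, res i.1 ⊗ₜ[R] i.2) := by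
    rw [map_sum]
    refine Finset.sum_congr rfl fun i hi => ?_
    rw [LinearMap.rTensor_tmul, hjres i.1 fun x hx => Finset.mem_biUnion.2 ⟨i, hi, hx⟩]
  rw [hz'] at hz ⊢
  have h := congrArg (fun y => w.rTensor Q (p.rTensor Q y)) hz
  simp only [map_zero, ← LinearMap.comp_apply, ← LinearMap.rTensor_comp, LinearMap.comp_assoc] at h
  rw [show w ∘ₗ p ∘ₗ u ∘ₗ j = LinearMap.id from hw, LinearMap.rTensor_id, LinearMap.id_apply] at h
  rw [h, map_zero]

theorem universallyInjective_iff_injective
    (hP : ∀ I : Ideal R, I.FG → I ≠ ⊤ → I.annihilator ≠ ⊥)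
    {N M : Type u} [AddCommGroup N] [Module R N] [Module.Projective R N] [AddCommGroup M]
    [Module R M] [Module.Projective R M] (u : N →ₗ[R] M) :
    CAlgX.UniversallyInjective R u ↔ Function.Injective u := by
  constructor
  · intro h a b hab
    have := h R (a₁ := a ⊗ₜ (1 : R)) (a₂ := b ⊗ₜ (1 : R)) (by simp [hab])
    simpa using congr(TensorProduct.rid R N $this)
  · intro hu
    obtain ⟨s, hs⟩ := (Module.projective_def' (R := R) (P := N)).1 inferInstance
    obtain ⟨sM, hsM⟩ := (Module.projective_def' (R := R) (P := M)).1 inferInstance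
    set p : (N →₀ R) →ₗ[R] N := Finsupp.linearCombination R id
    let e := (Finsupp.sumFinsuppLEquivProdFinsupp R (α := M) (β := N) (M := R)).symm
    let u' : (N →₀ R) →ₗ[R] (M ⊕ N →₀ R) :=
      e.toLinearMap ∘ₗ ((sM ∘ₗ u ∘ₗ p).prod (LinearMap.id - s ∘ₗ p))
    have hu' : Function.Injective u' := by
      rw [injective_iff_map_eq_zero]
      intro x hx
      have h := e.injective (hx.trans (map_zero e).symm)
      change (sM (u (p x)), x - s (p x)) = 0 at h
      rw [Prod.mk_eq_zero] at h
      have h1 : u (p x) = 0 := by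
        have := congrArg (Finsupp.linearCombination R (id : M → M)) h.1
        rwa [map_zero, ← LinearMap.comp_apply _ sM, hsM, LinearMap.id_apply] at this
      have h2 : p x = 0 := hu (h1.trans (map_zero u).symm)
      simpa [h2] using h.2
    have hcomp : u' ∘ₗ s = e.toLinearMap ∘ₗ LinearMap.inl R _ _ ∘ₗ sM ∘ₗ u := by
      ext n : 1
      have : p (s n) = n := congr($hs n)
      simp [u', this]
    intro Q _ _
    rw [injective_iff_map_eq_zero]
    intro z hz
    have h := universallyInjective_finsupp hP u' hu' Q (a₁ := s.rTensor Q z) (a₂ := 0) (by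
      rw [map_zero, ← LinearMap.comp_apply, ← LinearMap.rTensor_comp, hcomp]
      simp only [LinearMap.rTensor_comp, LinearMap.comp_apply, hz, map_zero])
    have h' := congrArg (p.rTensor Q) h
    rwa [map_zero, ← LinearMap.comp_apply, ← LinearMap.rTensor_comp, hs, LinearMap.rTensor_id,
      LinearMap.id_apply] at h'

end Groth.Agent.PureExtLib
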